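import Cfsg.Agent.H620.RIM.Dz

/-!
# S4816: user forms of the counting tools (helper620)

* `nb_of_quot` : `NB p m S` from the statement for quotients `G ⧸ Z ≃* S`;
* `nb_of_dz` : `p ∥ |S|`, `y ∈ S` of order `p`, `|C_S(y)| = p k`, `|N_S(⟨y⟩)| = w p k`, the subgroups of order `k` of
  `C_S(y)` have at most `k'` classes, `F` a set of classes with `MGood m`, `k' (w ^ 2 + (p - 1)) < w |F|`;
* `nb_of_cent` : `y ∈ S` a `p`-element, `F` a set of classes with `MGood m`, `|C_S(y)| < |F|`;
* `exists_finset` : `F` from a list of pairwise not conjugate elements.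
-/

set_option autoImplicit false
set_option linter.unusedSectionVars false

namespace Cfsg.Agent.H620.RIM

open Cfsg Subgroup Finset
open Cfsg.Agent.H622.Over Cfsg.Agent.H849.RIM Cfsg.Agent.H665.RIM

universe u

/-- **`NB p m S` from the statement for quotients `G ⧸ Z`.** -/
theorem nb_of_quot {p m : ℕ} {S : Type u} [Group S]
    (h : ∀ (G : Type u) [Group G] [Finite G] (Z : Subgroup G) [Z.Normal], Z ≤ center G → ((G ⧸ Z) ≃* S) →
      Nat.card Z = m → commutator G = ⊤ → ∀ c : Z →* ℂˣ, Function.Injective c →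
        ∃ χ : IrrCharacter G, Lies Z c (χ : G → ℂ) ∧ p ∣ charDegree (χ : G → ℂ)) : NB p m S := by
  intro E _ _ π hπ hker hperf hcard l hl
  obtain ⟨χ, hχ, hd⟩ := h E π.ker hker (QuotientGroup.quotientKerEquivOfSurjective π hπ) hcard hperf l hl
  refine ⟨χ, χ.2, fun z => ?_, hd⟩
  have h1 := hχ 1 z
  rwa [one_mul] at h1

/-- Classes from a list of pairwise not conjugate elements. -/
theorem exists_finset {S : Type u} [Group S] (P : S → Prop) (L : List S) (hL : L.Pairwise fun a b => ¬ IsConj a b)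
    (hP : ∀ g ∈ L, P g) :
    ∃ F : Finset (ConjClasses S), F.card = L.length ∧ ∀ C ∈ F, ∃ g : S, ConjClasses.mk g = C ∧ P g := by
  classical
  refine ⟨(L.map ConjClasses.mk).toFinset, ?_, ?_⟩
  · rw [List.toFinset_card_of_nodup, List.length_map]
    rw [List.Nodup, List.pairwise_map]
    exact hL.imp fun h h1 => h (ConjClasses.mk_eq_mk_iff_isConj.1 h1)
  · intro C hC
    rw [List.mem_toFinset, List.mem_map] at hC
    obtain ⟨g, hg, rfl⟩ := hC
    exact ⟨g, rfl, hP g hg⟩

/-- Transport of sets of classes. -/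
theorem exists_transport {m : ℕ} {S T : Type u} [Group S] [Group T] (e : T ≃* S) (F : Finset (ConjClasses S))
    (hF : ∀ C ∈ F, ∃ g : S, ConjClasses.mk g = C ∧ MGood m g) :
    ∃ F' : Finset (ConjClasses T), F'.card = F.card ∧ ∀ C ∈ F', ∃ g : T, ConjClasses.mk g = C ∧ MGood m g := by
  classical
  have hinj : Function.Injective (ConjClasses.map e.symm.toMonoidHom) := by
    intro a b hab
    obtain ⟨a, rfl⟩ := ConjClasses.mk_surjective a
    obtain ⟨b, rfl⟩ := ConjClasses.mk_surjective b
    have h1 : IsConj (e.symm a) (e.symm b) := ConjClasses.mk_eq_mk_iff_isConj.1 hab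
    rw [ConjClasses.mk_eq_mk_iff_isConj]
    obtain ⟨c, hc⟩ := isConj_iff.1 h1
    refine isConj_iff.2 ⟨e c, ?_⟩
    have h2 := congrArg e hc
    simpa using h2
  refine ⟨F.image (ConjClasses.map e.symm.toMonoidHom), Finset.card_image_of_injective _ hinj, ?_⟩
  intro C hC
  obtain ⟨D, hD, rfl⟩ := Finset.mem_image.1 hC
  obtain ⟨g, rfl, hg⟩ := hF D hD
  exact ⟨e.symm g, rfl, hg.mulEquiv e.symm⟩

theorem card_centralizer_congr {S T : Type*} [Group S] [Group T] (e : S ≃* T) (y : S) :
    Nat.card (centralizer ({e y} : Set T)) = Nat.card (centralizer ({y} : Set S)) := by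
  refine (Nat.card_congr (e.toEquiv.subtypeEquiv ?_)).symm
  intro x
  rw [mem_centralizer_singleton_iff, mem_centralizer_singleton_iff]
  show x * y = y * x ↔ e x * e y = e y * e x
  rw [← map_mul, ← map_mul, e.injective.eq_iff]

theorem card_normalizer_congr {S T : Type*} [Group S] [Group T] (e : S ≃* T) (y : S) :
    Nat.card (normalizer ((zpowers (e y) : Subgroup T) : Set T)) =
      Nat.card (normalizer ((zpowers y : Subgroup S) : Set S)) := by
  refine (Nat.card_congr (e.toEquiv.subtypeEquiv ?_)).symm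
  intro x
  have h1 : (zpowers (e y) : Subgroup T) = (zpowers y).map e.toMonoidHom := by
    rw [MonoidHom.map_zpowers]; rfl
  rw [h1]
  rw [Subgroup.mem_normalizer_iff, Subgroup.mem_normalizer_iff]
  constructor
  · intro h n
    show n ∈ (zpowers y).map e.toMonoidHom ↔ e x * n * (e x)⁻¹ ∈ (zpowers y).map e.toMonoidHom
    obtain ⟨n, rfl⟩ := e.surjective n
    have h2 : e x * e n * (e x)⁻¹ = e.toMonoidHom (x * n * x⁻¹) := by simp
    rw [h2, Subgroup.mem_map_iff_mem (f := e.toMonoidHom) e.injective]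
    have h3 : e n = e.toMonoidHom n := rfl
    rw [h3, Subgroup.mem_map_iff_mem (f := e.toMonoidHom) e.injective]
    exact h n
  · intro h n
    have h2 := h (e n)
    have h3 : e.toEquiv x * e n * (e.toEquiv x)⁻¹ = e.toMonoidHom (x * n * x⁻¹) := by simp
    rw [h3, Subgroup.mem_map_iff_mem (f := e.toMonoidHom) e.injective] at h2
    have h4 : e n = e.toMonoidHom n := rfl
    rw [h4, Subgroup.mem_map_iff_mem (f := e.toMonoidHom) e.injective] at h2
    exact h2

/-- **The defect zero count.**  `p ∥ |S|`, `y ∈ S` of order `p`, `|C_S(y)| = p k`, `|N_S(⟨y⟩)| = w p k`, the subgroups of order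
`k` of `C_S(y)` have at most `k'` classes, and there are more than `k' (w ^ 2 + (p - 1)) / w` classes with `MGood m`. -/
theorem nb_of_dz {p m : ℕ} (hp : p.Prime) (hpm : ¬ p ∣ m) {S : Type u} [Group S]
    (hsq : ¬ p ^ 2 ∣ Nat.card S) {y : S} (hy : orderOf y = p) {k w k' : ℕ}
    (hC : Nat.card (centralizer ({y} : Set S)) = p * k)
    (hN : Nat.card (normalizer ((zpowers y : Subgroup S) : Set S)) = w * (p * k))
    (hk' : ∀ C₀ : Subgroup S, C₀ ≤ centralizer {y} → Nat.card C₀ = k → Nat.card (ConjClasses C₀) ≤ k')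
    (F : Finset (ConjClasses S)) (hF : ∀ C ∈ F, ∃ g : S, ConjClasses.mk g = C ∧ MGood m g)
    (hlt : k' * (w ^ 2 + (p - 1)) < w * F.card) : NB p m S := by
  have : Fact p.Prime := ⟨hp⟩
  refine nb_of_quot fun G _ _ Z _ hZ e hm _ c _ => ?_
  obtain ⟨F', hF'c, hF'⟩ := exists_transport e F hF
  refine exists_dz_quot_m hZ (hm ▸ hpm) (by rwa [Nat.card_congr e.toEquiv]) (y := e.symm y) (k := k) (w := w)
    (k' := k') ?_ ?_ ?_ c F' (hm ▸ hF') ?_ (by rwa [hF'c])
  · rw [← hy]
    exact orderOf_injective e.symm.toMonoidHom e.symm.injective y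
  · rw [card_centralizer_congr e.symm y, hC]
  · rw [card_normalizer_congr e.symm y, hN]
  · intro C₀ hC₀ hcard
    have h1 : C₀.map e.toMonoidHom ≤ centralizer {y} := by
      rintro _ ⟨x, hx, rfl⟩
      have h2 := hC₀ hx
      rw [mem_centralizer_singleton_iff] at h2 ⊢
      have h3 := congrArg e h2
      rw [map_mul, map_mul, e.apply_symm_apply] at h3
      exact h3
    have h2 : Nat.card (C₀.map e.toMonoidHom) = k := by
      rw [← hcard]
      exact (Nat.card_congr (C₀.equivMapOfInjective e.toMonoidHom e.injective).toEquiv).symm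
    have h3 := hk' _ h1 h2
    refine le_trans ?_ h3
    have h4 : Finite (C₀.map e.toMonoidHom) := by
      have : Finite (C₀ : Subgroup (G ⧸ Z)) := inferInstance
      exact Finite.of_equiv _ (C₀.equivMapOfInjective e.toMonoidHom e.injective).toEquiv
    have h5 : Finite (ConjClasses (C₀.map e.toMonoidHom)) :=
      Finite.of_surjective _ (ConjClasses.mk_surjective (α := C₀.map e.toMonoidHom))
    exact Nat.card_le_card_of_surjective _
      (ConjClasses.map_surjective (f := (C₀.equivMapOfInjective e.toMonoidHom e.injective).symm.toMonoidHom)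
        (C₀.equivMapOfInjective e.toMonoidHom e.injective).symm.surjective)

/-- The case `C_S(y) = ⟨y⟩`: more than `w + (p - 1) / w` classes. -/
theorem nb_of_dz_self {p m : ℕ} (hp : p.Prime) (hpm : ¬ p ∣ m) {S : Type u} [Group S]
    (hsq : ¬ p ^ 2 ∣ Nat.card S) {y : S} (hy : orderOf y = p) {w : ℕ}
    (hC : Nat.card (centralizer ({y} : Set S)) = p)
    (hN : Nat.card (normalizer ((zpowers y : Subgroup S) : Set S)) = w * p)
    (F : Finset (ConjClasses S)) (hF : ∀ C ∈ F, ∃ g : S, ConjClasses.mk g = C ∧ MGood m g)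
    (hlt : w ^ 2 + (p - 1) < w * F.card) : NB p m S := by
  refine nb_of_dz hp hpm hsq hy (k := 1) (k' := 1) (by rw [hC, mul_one]) (by rw [hN, mul_one]) ?_ F hF
    (by rwa [one_mul])
  intro C₀ _ hcard
  have h1 : Subsingleton C₀ := (Nat.card_eq_one_iff_unique.1 hcard).1
  have h2 : Subsingleton (ConjClasses C₀) := by
    refine ⟨fun a b => ?_⟩
    obtain ⟨a, rfl⟩ := ConjClasses.mk_surjective a
    obtain ⟨b, rfl⟩ := ConjClasses.mk_surjective b
    rw [Subsingleton.elim a b]
  have : Nat.card (ConjClasses C₀) = 1 := Nat.card_eq_one_iff_unique.2 ⟨h2, ⟨ConjClasses.mk 1⟩⟩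
  exact this.le

/-- **The centralizer count.** -/
theorem nb_of_cent {p m : ℕ} (hp : p.Prime) (hpm : ¬ p ∣ m) {S : Type u} [Group S] {y : S} {n : ℕ}
    (hy : orderOf y = p ^ n) (F : Finset (ConjClasses S))
    (hF : ∀ C ∈ F, ∃ g : S, ConjClasses.mk g = C ∧ MGood m g)
    (hlt : Nat.card (centralizer ({y} : Set S)) < F.card) : NB p m S := by
  have : Fact p.Prime := ⟨hp⟩
  refine nb_of_quot fun G _ _ Z _ hZ e hm _ c _ => ?_
  obtain ⟨F', hF'c, hF'⟩ := exists_transport e F hF
  refine exists_dvd_quot_m hZ (hm ▸ hpm) (y := e.symm y) (n := n) ?_ c F' (hm ▸ hF') ?_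
  · rw [← hy]
    exact orderOf_injective e.symm.toMonoidHom e.symm.injective y
  · rw [card_centralizer_congr e.symm y, hF'c]
    exact hlt

end Cfsg.Agent.H620.RIM
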