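import Cfsg.Agent.H742.OddMultSpor
import Cfsg.Agent.S2115
import Cfsg.Agent.H665.RIM.Defs

/-!
# S4816: the kernels of the perfect central extensions of the sporadic groups (helper620)

* `nball_of_mdvd` : `NBall p S` from `NB p m S` for the divisors `m` of the order of the Schur multiplier;
* `dvd_m11`, ... : the kernel of a perfect central extension has order dividing `1`, `2`, `3`, `6`, `12`;
* `abSyl_of` : a group whose order is not divisible by `p ^ 3`.
-/

set_option autoImplicit false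

namespace Cfsg.Agent.H620.RIM

open Cfsg Subgroup Cfsg.Agent.H665.RIM

universe u v w

/-- every perfect central extension of `S` has a kernel of order dividing `n` -/
def MDvd (n : ℕ) (S : Type v) [Group S] : Prop :=
  ∀ (E : Type u) [Group E] [Finite E] (π : E →* S), Function.Surjective π → π.ker ≤ Subgroup.center E →
    commutator E = ⊤ → Nat.card π.ker ∣ n

theorem mdvd_of {S : Type v} [Group S] {T : Type w} [Group T] {n : ℕ} (e : Nonempty (S ≃* T))
    (hA : Cfsg.HasCyclicSchurMultiplier T n) : MDvd.{u} n S := by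
  intro E _ _ π hπ hk hc
  obtain ⟨e⟩ := e
  have hker : (e.toMonoidHom.comp π).ker = π.ker := by
    ext x
    rw [MonoidHom.mem_ker, MonoidHom.mem_ker, MonoidHom.comp_apply]
    exact map_eq_one_iff _ e.injective
  have h2 : Cfsg.IsStemExtension (e.toMonoidHom.comp π) :=
    ⟨e.surjective.comp hπ, by rw [hker]; exact hk, by rw [hc]; exact le_top⟩
  obtain ⟨f, hf⟩ := H487.HasSchurMultiplier.exists_surj_ker hA h2
  have h3 := Subgroup.card_dvd_of_surjective f hf
  rw [Nat.card_congr (Multiplicative.toAdd (α := ZMod n)), Nat.card_zmod, hker] at h3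
  exact h3

theorem nball_of_mdvd {p n : ℕ} {S : Type u} [Group S] (h : MDvd.{u} n S)
    (hm : ∀ m, m ∣ n → 2 ≤ m → ¬ p ∣ m → NB p m S) : NBall p S := by
  intro m hm2 hpm E _ _ π hπ hk hc hcard l hl
  exact hm m (hcard ▸ h E π hπ hk hc) hm2 hpm E π hπ hk hc hcard l hl

/-- no kernels of order prime to `p` -/
theorem nball_of_pow {p n k : ℕ} (hp : p.Prime) {S : Type u} [Group S] (h : MDvd.{u} n S) (hn : n ∣ p ^ k) :
    NBall p S := by
  refine nball_of_mdvd h fun m hm hm2 hpm => ?_
  obtain ⟨j, -, rfl⟩ := (Nat.dvd_prime_pow hp).1 (hm.trans hn)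
  rcases Nat.eq_zero_or_pos j with rfl | hj
  · norm_num at hm2
  · exact absurd (dvd_pow_self p hj.ne') hpm

theorem abSyl_of {p : ℕ} (hp : p.Prime) {S : Type u} [Group S] [Finite S] (h : ¬ p ^ 3 ∣ Nat.card S) :
    AbSyl p S := by
  intro P hP a ha b hb
  have hf : Fact p.Prime := ⟨hp⟩
  obtain ⟨n, hn⟩ := (IsPGroup.iff_card).1 hP
  have h1 : n < 3 := by
    by_contra h2
    push Not at h2
    exact h ((pow_dvd_pow p h2).trans (hn ▸ card_subgroup_dvd_card P))
  have key : ∀ x y : P, x * y = y * x := by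
    interval_cases n
    · intro x y
      have : Subsingleton P := (Nat.card_eq_one_iff_unique.1 (by rw [hn, pow_zero])).1
      exact Subsingleton.elim _ _
    · intro x y
      have : IsCyclic P := isCyclic_of_prime_card (p := p) (by rw [hn, pow_one])
      exact (IsCyclic.isMulCommutative (α := P)).is_comm.comm x y
    · have := IsPGroup.isMulCommutative_of_card_eq_prime_sq hn
      exact fun x y => this.is_comm.comm x y
  exact congrArg Subtype.val (key ⟨a, ha⟩ ⟨b, hb⟩)


theorem dvd_m11 {S : Type v} [Group S] (h : Spor.IsoM11 S) : MDvd.{u} 1 S := mdvd_of h S2034.result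

theorem dvd_m12 {S : Type v} [Group S] (h : Spor.IsoM12 S) : MDvd.{u} 2 S := mdvd_of h S2035.result

theorem dvd_m22 {S : Type v} [Group S] (h : Spor.IsoM22 S) : MDvd.{u} 12 S := mdvd_of h S2036.result

theorem dvd_m23 {S : Type v} [Group S] (h : Spor.IsoM23 S) : MDvd.{u} 1 S := mdvd_of h S2037.result

theorem dvd_m24 {S : Type v} [Group S] (h : Spor.IsoM24 S) : MDvd.{u} 1 S := mdvd_of h S2038.result

theorem dvd_j1 {S : Type v} [Group S] (h : Spor.IsoJ1 S) : MDvd.{u} 1 S := mdvd_of h S2039.result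

theorem dvd_j2 {S : Type v} [Group S] (h : Spor.IsoJ2 S) : MDvd.{u} 2 S := mdvd_of h S2040.result

theorem dvd_j3 {S : Type v} [Group S] (h : Spor.IsoJ3 S) : MDvd.{u} 3 S := by
  obtain ⟨F, i1, i2, ω, hF, hω, e⟩ := h
  exact mdvd_of e (S2041.result hF ω hω)

theorem dvd_j4 {S : Type v} [Group S] (h : Spor.IsoJ4 S) : MDvd.{u} 1 S := mdvd_of h S2042.result

theorem dvd_co1 {S : Type v} [Group S] (h : Spor.IsoCo1 S) : MDvd.{u} 2 S := mdvd_of h S2043.result

theorem dvd_co2 {S : Type v} [Group S] (h : Spor.IsoCo2 S) : MDvd.{u} 1 S := mdvd_of h S2044.result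

theorem dvd_co3 {S : Type v} [Group S] (h : Spor.IsoCo3 S) : MDvd.{u} 1 S := mdvd_of h S2045.result

theorem dvd_mcl {S : Type v} [Group S] (h : Spor.IsoMcL S) : MDvd.{u} 3 S := mdvd_of h S2047.result

theorem dvd_hs {S : Type v} [Group S] (h : Spor.IsoHS S) : MDvd.{u} 2 S := mdvd_of h S2046.result

theorem dvd_suz {S : Type v} [Group S] (h : Spor.IsoSuz S) : MDvd.{u} 6 S := mdvd_of h S2048.result

theorem dvd_he {S : Type v} [Group S] (h : Spor.IsoHe S) : MDvd.{u} 1 S := mdvd_of h S2049.result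

theorem dvd_ru {S : Type v} [Group S] (h : Spor.IsoRu S) : MDvd.{u} 2 S := mdvd_of h S2051.result

theorem dvd_on {S : Type v} [Group S] (h : Spor.IsoON S) : MDvd.{u} 3 S := mdvd_of h S2052.result

theorem dvd_ly {S : Type v} [Group S] (h : Spor.IsoLy S) : MDvd.{u} 1 S := mdvd_of h S2050.result

theorem dvd_fi22 {S : Type v} [Group S] (h : Spor.IsoFi22 S) : MDvd.{u} 6 S := mdvd_of h S2053.result

theorem dvd_fi23 {S : Type v} [Group S] (h : Spor.IsoFi23 S) : MDvd.{u} 1 S := mdvd_of h S2054.result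

theorem dvd_fi24 {S : Type v} [Group S] (h : Spor.IsoFi24' S) : MDvd.{u} 3 S := mdvd_of h S2055.result

theorem dvd_hn {S : Type v} [Group S] (h : Spor.IsoHN S) : MDvd.{u} 1 S := mdvd_of h S2056.result

theorem dvd_th {S : Type v} [Group S] (h : Spor.IsoTh S) : MDvd.{u} 1 S := mdvd_of h S2057.result

theorem dvd_b {S : Type v} [Group S] (h : Spor.IsoB S) : MDvd.{u} 2 S := mdvd_of h S2058.result

theorem dvd_m {S : Type v} [Group S] (h : Spor.IsoM S) : MDvd.{u} 1 S := mdvd_of h S2059.result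

theorem dvd_tits {S : Type v} [Group S] (h : Lie.IsoTits S) : MDvd.{u} 1 S :=
  mdvd_of (T := Lie.TitsGroup) h S2115.result

end Cfsg.Agent.H620.RIM
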