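import Cfsg.Agent.H620.RIM.Nb

/-!
# S4816: divisibility of character values by commutators in the centre (helper620)

`a`, `b` commute with `w`, `⁅a, b⁆ = z ∈ Z ≤ Z(G)`, `χ` over `c : Z →* ℂˣ`, `d` the order of `c z`:

* `exists_integral` : `χ(w) = d α` with `α` an algebraic integer;
* `exists_zero_over_d` : if `|C_G(w)| < d ^ 2 |Z| #{χ over c}` then some `χ` over `c` vanishes at `w`;
* `exists_of_cent_d` : `y ∈ S` a `p`-element, `F` a set of classes with `MGood`, `|C_S(y)| < d ^ 2 |F|`.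
-/

set_option autoImplicit false
set_option linter.unusedSectionVars false

namespace Cfsg.Agent.H620.RIM

open Cfsg Subgroup Finset Representation
open Cfsg.Agent.Characters.Core
open Cfsg.Agent.H622.Over Cfsg.Agent.H849.RIM Cfsg.Agent.H665.RIM
open scoped ComplexConjugate commutatorElement

universe u v

section rep

variable {G : Type u} [Group G]

/-- The determinant of a commutator. -/
theorem pow_finrank {V : Type v} [AddCommGroup V] [Module ℂ V] [FiniteDimensional ℂ V]
    (ρ : Representation ℂ G V) {a b : G} {ε : ℂ} (h : ρ ⁅a, b⁆ = ε • (LinearMap.id : V →ₗ[ℂ] V)) :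
    ε ^ Module.finrank ℂ V = 1 := by
  have h1 : LinearMap.det (ρ ⁅a, b⁆) = 1 := by
    have h2 : (LinearMap.det.comp ρ : G →* ℂ) ⁅a, b⁆ = 1 := by
      have h3 : (LinearMap.det.comp ρ : G →* ℂ).toHomUnits ⁅a, b⁆ = 1 := by
        rw [map_commutatorElement, commutatorElement_eq_one_iff_mul_comm]
        exact mul_comm _ _
      have h4 := congrArg Units.val h3
      rwa [MonoidHom.coe_toHomUnits, Units.val_one] at h4
    exact h2
  rw [h, LinearMap.det_smul, LinearMap.det_id, mul_one] at h1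
  exact h1

/-- The value at a central element. -/
theorem exists_integral_rep [Finite G] {w : G} (hw : w ∈ center G) {a b : G} {ε : ℂ}
    (V : Type v) [AddCommGroup V] [Module ℂ V] [FiniteDimensional ℂ V] (ρ : Representation ℂ G V) :
    ρ ⁅a, b⁆ = ε • (LinearMap.id : V →ₗ[ℂ] V) →
      ∃ α : ℂ, IsIntegral ℤ α ∧ ρ.character w = (orderOf ε : ℂ) * α := by
  refine rep_induction (P := fun V _ _ ρ => ρ ⁅a, b⁆ = ε • (LinearMap.id : V →ₗ[ℂ] V) →
    ∃ α : ℂ, IsIntegral ℤ α ∧ ρ.character w = (orderOf ε : ℂ) * α) ?_ ?_ V ρ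
  · intro V _ _ ρ hV _
    refine ⟨0, isIntegral_zero, ?_⟩
    have : ρ w = 0 := by ext x; exact Subsingleton.elim _ _
    simp [character, this]
  · rintro V _ _ _ ρ U U' h hU ih hρ
    have hrU : U.toRepresentation ⁅a, b⁆ = ε • (LinearMap.id : U.toSubmodule →ₗ[ℂ] U.toSubmodule) := by
      ext x
      have h1 := LinearMap.congr_fun hρ (x : V)
      exact h1
    have hrU' : U'.toRepresentation ⁅a, b⁆ = ε • (LinearMap.id : U'.toSubmodule →ₗ[ℂ] U'.toSubmodule) := by
      ext x
      have h1 := LinearMap.congr_fun hρ (x : V)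
      exact h1
    obtain ⟨α', hα', h'⟩ := ih hrU'
    rw [character_eq_add_of_isCompl U U' h, Pi.add_apply, h']
    -- the irreducible part
    have hd : orderOf ε ∣ Module.finrank ℂ U.toSubmodule :=
      orderOf_dvd_of_pow_eq_one (pow_finrank U.toRepresentation hrU)
    obtain ⟨k, hk⟩ := hd
    obtain ⟨μ, hμ⟩ := OddOrderCharacters.ClassSum.schur_scalar U.toRepresentation hU (U.toRepresentation w)
      (fun g => by
        have h1 : w * g = g * w := (mem_center_iff.1 hw g).symm
        have h2 := congrArg U.toRepresentation h1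
        rwa [map_mul, map_mul] at h2)
    have hnt : Nontrivial U.toSubmodule := by
      have := CharactersDeep.Extraspecial.nontrivial_of_isIrreducible U.toRepresentation hU
      exact this
    have hμi : IsIntegral ℤ μ := by
      have h1 : μ ^ Nat.card G = 1 := by
        obtain ⟨v, hv⟩ := exists_ne (0 : U.toSubmodule)
        have h2 := Characters.Values.rep_pow_card U.toRepresentation w
        have h3 : ∀ n : ℕ, ((U.toRepresentation w) ^ n) v = μ ^ n • v := by
          intro n
          induction n with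
          | zero => simp
          | succ n ih => rw [pow_succ', Module.End.mul_apply, ih, map_smul, hμ]; simp [pow_succ, mul_smul]
        have h4 := h3 (Nat.card G)
        rw [h2] at h4
        have h5 : (μ ^ Nat.card G - 1) • v = 0 := by
          rw [sub_smul, one_smul, ← h4]
          simp
        rcases smul_eq_zero.1 h5 with h6 | h6
        · exact sub_eq_zero.1 h6
        · exact absurd h6 hv
      exact ⟨Polynomial.X ^ Nat.card G - 1, Polynomial.monic_X_pow_sub_C (1 : ℤ) Nat.card_pos.ne', by simp [h1]⟩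
    have hki : IsIntegral ℤ ((k : ℂ) * μ) := by
      have h1 : IsIntegral ℤ (k : ℂ) := by
        have := isIntegral_algebraMap (R := ℤ) (A := ℂ) (x := (k : ℤ))
        simpa using this
      exact h1.mul hμi
    refine ⟨k * μ + α', hki.add hα', ?_⟩
    have h1 : U.toRepresentation.character w = μ * Module.finrank ℂ U.toSubmodule := by
      rw [Representation.character, hμ, map_smul]
      simp
    rw [h1, hk]
    push_cast
    ring

/-- **Divisibility of the values.** -/
theorem exists_integral [Finite G] {Z : Subgroup G} (hZ : Z ≤ center G) {c : Z →* ℂˣ} {χ : G → ℂ}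
    (hχ : IsIrrCharacter G χ) (hc : Lies Z c χ) {w a b : G} (ha : Commute w a) (hb : Commute w b) {z : Z}
    (hz : ⁅a, b⁆ = (z : G)) : ∃ α : ℂ, IsIntegral ℤ α ∧ χ w = (orderOf (c z) : ℂ) * α := by
  obtain ⟨n, ρ, hρ, rfl⟩ := hχ
  have hzc : (z : G) ∈ center G := hZ z.2
  obtain ⟨μ, hμ⟩ := OddOrderCharacters.ClassSum.schur_scalar ρ hρ (ρ z)
    (fun g => by
      have h1 : (z : G) * g = g * z := (mem_center_iff.1 hzc g).symm
      have h2 := congrArg ρ h1
      rwa [map_mul, map_mul] at h2)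
  have h1 : ρ.character 1 ≠ 0 := isIrr_apply_one_ne_zero ⟨n, ρ, hρ, rfl⟩
  have h2 : μ = (c z : ℂ) := by
    have h3 := hc 1 z
    rw [one_mul] at h3
    have h4 : ρ.character z = μ * ρ.character 1 := by
      rw [Representation.character, hμ, map_smul, Representation.char_one]
      simp
    rw [h4, mul_comm] at h3
    exact mul_left_cancel₀ h1 h3
  let K : Subgroup G := centralizer {w}
  have hw' : (⟨w, mem_centralizer_singleton_iff.2 rfl⟩ : K) ∈ center K := by
    rw [mem_center_iff]
    intro g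
    exact Subtype.ext (mem_centralizer_singleton_iff.1 g.2)
  obtain ⟨α, hα, h⟩ := exists_integral_rep (G := K) hw' (a := ⟨a, mem_centralizer_singleton_iff.2 ha.symm⟩)
    (b := ⟨b, mem_centralizer_singleton_iff.2 hb.symm⟩) (ε := (c z : ℂ)) (Fin n → ℂ) (ρ.comp K.subtype) (by
      have h3 : (ρ.comp K.subtype) ⁅(⟨a, mem_centralizer_singleton_iff.2 ha.symm⟩ : K),
        (⟨b, mem_centralizer_singleton_iff.2 hb.symm⟩ : K)⁆ = ρ z := by
        rw [← hz]
        rfl
      rw [h3, hμ, h2])
  refine ⟨α, hα, ?_⟩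
  rw [orderOf_units] at h
  exact h

end rep

section count

variable {G : Type u} [Group G] [Finite G]

/-- **Zeros over a central character, with divisibility.** -/
theorem exists_zero_over_d {Z : Subgroup G} (hZ : Z ≤ center G) (c : Z →* ℂˣ) {w : G}
    (hw : (orderOf w).Coprime (Nat.card Z)) {d : ℕ} (hd0 : 0 < d)
    (hd : ∀ χ : IrrCharacter G, Lies Z c (χ : G → ℂ) → ∀ j : ℕ, ∃ α : ℂ, IsIntegral ℤ α ∧ (χ : G → ℂ) (w ^ j) = (d : ℂ) * α)
    (h : Nat.card (centralizer ({w} : Set G)) <
      d ^ 2 * (Nat.card Z * Nat.card {χ : IrrCharacter G // Lies Z c (χ : G → ℂ)})) :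
    ∃ χ : IrrCharacter G, Lies Z c (χ : G → ℂ) ∧ (χ : G → ℂ) w = 0 := by
  classical
  by_contra hcon
  push Not at hcon
  have := Fintype.ofFinite G
  have := finite_irr (G := G)
  have := Fintype.ofFinite (IrrCharacter G)
  set T : Finset (IrrCharacter G) := univ.filter fun χ : IrrCharacter G => Lies Z c (χ : G → ℂ) with hT
  have hTc : Nat.card {χ : IrrCharacter G // Lies Z c (χ : G → ℂ)} = T.card := by
    rw [Nat.card_eq_fintype_card, Fintype.card_subtype]
  let W : Subgroup G := zpowers w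
  have := Fintype.ofFinite W
  set X : Finset W := Finset.univ.filter fun g => ∃ m : ℕ, m.Coprime (Nat.card W) ∧ (w ^ m : G) = (g : G) with hX
  have hWc : Nat.card W = orderOf w := Nat.card_zpowers w
  have hwX : (⟨w, mem_zpowers w⟩ : W) ∈ X := by
    rw [hX, Finset.mem_filter]
    exact ⟨Finset.mem_univ _, 1, Nat.coprime_one_left _, pow_one w⟩
  have hXpos : 0 < X.card := Finset.card_pos.2 ⟨_, hwX⟩
  have hclosed : ∀ g ∈ X, ∀ m : ℕ, m.Coprime (Nat.card W) → g ^ m ∈ X := by
    intro g hg m hm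
    rw [hX, Finset.mem_filter] at hg ⊢
    obtain ⟨-, k, hk, h1⟩ := hg
    exact ⟨Finset.mem_univ _, k * m, Nat.Coprime.mul_left hk hm, by rw [pow_mul, h1]; rfl⟩
  have hcent : ∀ g ∈ X, Nat.card (centralizer ({(g : G)} : Set G)) = Nat.card (centralizer ({w} : Set G)) := by
    intro g hg
    rw [hX, Finset.mem_filter] at hg
    obtain ⟨-, k, hk, h1⟩ := hg
    rw [← h1]
    have hk' : k.Coprime (orderOf w) := by rwa [hWc] at hk
    have h2 : centralizer ({w ^ k} : Set G) = centralizer ({w} : Set G) := by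
      ext x
      rw [mem_centralizer_singleton_iff, mem_centralizer_singleton_iff]
      constructor
      · intro hx
        have h1 : w ∈ zpowers (w ^ k) := by
          rw [mem_zpowers_pow_iff]
          exact hk'
        rw [← mem_powers_iff_mem_zpowers] at h1
        obtain ⟨l, hl⟩ := h1
        have h3 : Commute x ((w ^ k) ^ l) := Commute.pow_right (show Commute x (w ^ k) from hx) l
        have h4 : (w ^ k) ^ l = w := hl
        rw [h4] at h3
        exact h3
      · intro hx
        exact Commute.pow_right (show Commute x w from hx) k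
    rw [h2]
  have hord : ∀ g ∈ X, (orderOf (g : G)).Coprime (Nat.card Z) := by
    intro g hg
    rw [hX, Finset.mem_filter] at hg
    obtain ⟨-, k, hk, h1⟩ := hg
    rw [← h1]
    exact hw.coprime_dvd_left (orderOf_pow_dvd k)
  have hdC : (d : ℂ) ≠ 0 := by exact_mod_cast hd0.ne'
  have hdR : (0 : ℝ) < (d : ℝ) ^ 2 := by positivity
  have key : ∀ χ ∈ T, (X.card : ℝ) * (d : ℝ) ^ 2 ≤ ∑ g ∈ X, ‖(χ : G → ℂ) g‖ ^ 2 := by
    intro χ hχ
    have hl := (mem_filter.1 hχ).2
    have hch : IsCharacter G (χ : G → ℂ) := isIrr_isCharacter χ.2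
    have hchW : IsCharacter W (fun g : W => (χ : G → ℂ) g) := isCharacter_comp W.subtype hch
    have hgen : IsGeneralizedCharacter W (fun g : W => (χ : G → ℂ) g) :=
      isGeneralizedCharacter_def.2 ⟨_, 0, hchW, isCharacter_zero, by rw [sub_zero]⟩
    have hval : ∀ g : W, ∃ α : ℂ, IsIntegral ℤ α ∧ (χ : G → ℂ) g = (d : ℂ) * α := by
      intro g
      obtain ⟨j, hj⟩ : ∃ j : ℕ, w ^ j = (g : G) := by
        have := g.2
        rw [← mem_powers_iff_mem_zpowers] at this
        exact this
      obtain ⟨α, h1, h2⟩ := hd χ hl j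
      exact ⟨α, h1, by rw [← hj, h2]⟩
    have hcast : ∀ g : W, ((‖(χ : G → ℂ) g‖ ^ 2 / (d : ℝ) ^ 2 : ℝ) : ℂ) =
        ((χ : G → ℂ) g * (χ : G → ℂ) ((g⁻¹ : W) : G)) / (d : ℂ) ^ 2 := by
      intro g
      push_cast
      have h1 : (χ : G → ℂ) ((g : G)⁻¹) = conj ((χ : G → ℂ) g) := isCharacter_apply_inv hch (g : G)
      rw [h1, Complex.mul_conj']
    have h1 := Cfsg.Agent.OddOrderCharacters.PF13.SumBound.card_le_sum_of_gal (G := W)
      (fun g => ‖(χ : G → ℂ) g‖ ^ 2 / (d : ℝ) ^ 2) ?_ ?_ X hclosed ?_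
    · rw [← Finset.sum_div, le_div_iff₀ hdR] at h1
      exact h1
    · intro g
      rw [hcast]
      obtain ⟨α, h1, h2⟩ := hval g
      obtain ⟨β, h3, h4⟩ := hval g⁻¹
      rw [h2, h4]
      have h5 : (d : ℂ) * α * ((d : ℂ) * β) / (d : ℂ) ^ 2 = α * β := by
        field_simp
      rw [h5]
      exact h1.mul h3
    · intro σ
      obtain ⟨m, hm, h2⟩ := Cfsg.Agent.OddOrderCharacters.PF13.SumBound.gen_exists_pow (G := W) σ
      refine ⟨m, hm, fun g => ?_⟩
      rw [hcast, hcast, map_div₀, map_mul, map_pow, map_natCast]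
      have h3 := h2 _ hgen g
      have h4 := h2 _ hgen g⁻¹
      rw [inv_pow] at h4
      rw [h3, h4]
    · intro g hg
      have h2 := hcon χ hl
      rw [hX, Finset.mem_filter] at hg
      obtain ⟨-, k, hk, h3⟩ := hg
      have hk' : k.Coprime (orderOf w) := by rwa [hWc] at hk
      have h4 : (χ : G → ℂ) g ≠ 0 := by
        rw [← h3]
        exact fun h0 => h2 ((H710.VanCount.zero_pow_iff χ hk').1 h0)
      have h5 : 0 < ‖(χ : G → ℂ) g‖ := norm_pos_iff.2 h4
      positivity
  have h1 : (Nat.card Z : ℝ) * ((T.card : ℝ) * (X.card * (d : ℝ) ^ 2)) ≤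
      X.card * Nat.card (centralizer ({w} : Set G)) := by
    calc (Nat.card Z : ℝ) * ((T.card : ℝ) * (X.card * (d : ℝ) ^ 2)) =
          Nat.card Z * ∑ _χ ∈ T, ((X.card : ℝ) * (d : ℝ) ^ 2) := by
          rw [Finset.sum_const, nsmul_eq_mul]
      _ ≤ Nat.card Z * ∑ χ ∈ T, ∑ g ∈ X, ‖(χ : G → ℂ) g‖ ^ 2 :=
          mul_le_mul_of_nonneg_left (Finset.sum_le_sum key) (Nat.cast_nonneg _)
      _ = ∑ g ∈ X, (Nat.card Z : ℝ) * ∑ χ ∈ T, ‖(χ : G → ℂ) g‖ ^ 2 := by
          rw [Finset.sum_comm, Finset.mul_sum]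
      _ = ∑ g ∈ X, (Nat.card (centralizer ({w} : Set G)) : ℝ) := by
          refine Finset.sum_congr rfl fun g hg => ?_
          rw [← hcent g hg, ← sum_norm_sq_over hZ c (hord g hg)]
      _ = _ := by rw [Finset.sum_const, nsmul_eq_mul]
  have h2 : d ^ 2 * (Nat.card Z * T.card) ≤ Nat.card (centralizer ({w} : Set G)) := by
    have h3 : ((d ^ 2 * (Nat.card Z * T.card) * X.card : ℕ) : ℝ) ≤
        ((Nat.card (centralizer ({w} : Set G)) * X.card : ℕ) : ℝ) := by
      push_cast
      linarith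
    exact Nat.le_of_mul_le_mul_right (by exact_mod_cast h3) hXpos
  rw [hTc] at h
  omega

/-- Commutation with powers. -/
theorem exists_integral_pow {Z : Subgroup G} (hZ : Z ≤ center G) {c : Z →* ℂˣ} {w a b : G} (ha : Commute w a)
    (hb : Commute w b) {z : Z} (hz : ⁅a, b⁆ = (z : G)) (χ : IrrCharacter G) (hχ : Lies Z c (χ : G → ℂ)) (j : ℕ) :
    ∃ α : ℂ, IsIntegral ℤ α ∧ (χ : G → ℂ) (w ^ j) = (orderOf (c z) : ℂ) * α :=
  exists_integral hZ χ.2 hχ (ha.pow_left j) (hb.pow_left j) hz

/-- **Some degree is divisible by `p`**: `w` a `p`-element, `d ^ 2 |Z| #{χ over c} > |C_G(w)|`. -/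
theorem exists_dvd_over_d {p : ℕ} [Fact p.Prime] {Z : Subgroup G} (hZ : Z ≤ center G) (hZp : ¬ p ∣ Nat.card Z)
    (c : Z →* ℂˣ) {w : G} {n : ℕ} (hw : w ^ p ^ n = 1) {a b : G} (ha : Commute w a) (hb : Commute w b) {z : Z}
    (hz : ⁅a, b⁆ = (z : G))
    (h : Nat.card (centralizer ({w} : Set G)) <
      orderOf (c z) ^ 2 * (Nat.card Z * Nat.card {χ : IrrCharacter G // Lies Z c (χ : G → ℂ)})) :
    ∃ χ : IrrCharacter G, Lies Z c (χ : G → ℂ) ∧ p ∣ charDegree (χ : G → ℂ) := by
  have hp : p.Prime := Fact.out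
  have hco : (orderOf w).Coprime (Nat.card Z) :=
    (Nat.Coprime.pow_left n ((hp.coprime_iff_not_dvd).2 hZp)).coprime_dvd_left (orderOf_dvd_of_pow_eq_one hw)
  have hd0 : 0 < orderOf (c z) := (c.isOfFinOrder (isOfFinOrder_of_finite z)).orderOf_pos
  obtain ⟨χ, hl, h0⟩ := exists_zero_over_d hZ c hco hd0 (exists_integral_pow hZ ha hb hz) h
  refine ⟨χ, hl, ?_⟩
  obtain ⟨M, hM⟩ := Blocks.ExistsModular.exists_isPModular hp
  have hMp : M.IsPrime := hM.2.1.isPrime
  have h1 := H849.OZ.av_sub_mem (χ := χ) hp hMp hM.2.2 w (j := 0) (n := n) (by rw [pow_zero, one_pow, hw])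
  have h3 : H732.VZ.av χ w = 0 := Subtype.ext h0
  rw [h3, pow_zero, zero_sub, Ideal.neg_mem_iff] at h1
  have h4 : H732.VZ.av χ 1 = ((charDegree (χ : G → ℂ) : ℤ) : AlgInt) := by
    apply Subtype.ext
    rw [H732.VZ.av_coe, ← H686.CharKit.charDegree_irr χ]
    simp
  rw [h4, H732.VZ.int_mem_iff hp hMp hM.2.2] at h1
  exact_mod_cast h1

end count

section quot

theorem card_comap_surj {E : Type u} [Group E] [Finite E] {S : Type v} [Group S] (π : E →* S)
    (hπ : Function.Surjective π) (H : Subgroup S) :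
    Nat.card (H.comap π) = Nat.card H * Nat.card π.ker := by
  have hS : Finite S := Finite.of_surjective π hπ
  have h1 := Subgroup.index_comap_of_surjective H hπ
  have h2 := (H.comap π).card_mul_index
  have h3 := H.card_mul_index
  have h4 := π.ker.card_mul_index
  have h6 : π.ker.index = Nat.card S := by
    rw [Subgroup.index_ker, MonoidHom.range_eq_top.2 hπ, Nat.card_congr topEquiv.toEquiv]
  rw [h1] at h2
  have h5 : 0 < H.index := Nat.pos_of_ne_zero index_ne_zero_of_finite
  apply Nat.eq_of_mul_eq_mul_right h5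
  rw [h2, ← h4, h6, ← h3]
  ring

/-- The centralizer of a lift of a `p`-element. -/
theorem centralizer_lift {E : Type u} [Group E] [Finite E] {S : Type v} [Group S] (π : E →* S)
    (hπ : Function.Surjective π) (hker : π.ker ≤ center E) {w : E} (hw : (orderOf w).Coprime (Nat.card π.ker)) :
    centralizer ({w} : Set E) = (centralizer ({π w} : Set S)).comap π := by
  ext x
  rw [mem_centralizer_singleton_iff, mem_comap, mem_centralizer_singleton_iff]
  constructor
  · intro h
    have := congrArg π h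
    simpa using this
  · intro h2
    have h3 : w⁻¹ * (x * w * x⁻¹) ∈ π.ker := by
      rw [MonoidHom.mem_ker, map_mul, map_mul, map_mul, map_inv, map_inv, h2, mul_inv_cancel_right, inv_mul_cancel]
    have h4 : IsConj w (w * ((⟨_, h3⟩ : π.ker) : E)) := by
      rw [isConj_iff]
      exact ⟨x, by simp⟩
    have h5 := congrArg Subtype.val (eq_one_of_conj hker hw _ h4)
    have h6 : w⁻¹ * (x * w * x⁻¹) = 1 := h5
    rw [inv_mul_eq_one] at h6
    rw [eq_comm, mul_inv_eq_iff_eq_mul] at h6
    exact h6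

theorem card_centralizer_lift {E : Type u} [Group E] [Finite E] {S : Type v} [Group S] (π : E →* S)
    (hπ : Function.Surjective π) (hker : π.ker ≤ center E) {w : E} (hw : (orderOf w).Coprime (Nat.card π.ker)) :
    Nat.card (centralizer ({w} : Set E)) = Nat.card (centralizer ({π w} : Set S)) * Nat.card π.ker := by
  rw [centralizer_lift π hπ hker hw, card_comap_surj π hπ]

/-- **The centralizer count with divisibility, for one cover.** -/
theorem exists_of_cent_d {p : ℕ} (hp : p.Prime) {S : Type u} [Group S] {E : Type u} [Group E] [Finite E] (π : E →* S)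
    (hπ : Function.Surjective π) (hker : π.ker ≤ center E) (hpm : ¬ p ∣ Nat.card π.ker) (l : π.ker →* ℂˣ)
    {w : E} {n : ℕ} (hw : w ^ p ^ n = 1) {a b : E} (ha : Commute w a) (hb : Commute w b) {z : π.ker}
    (hz : ⁅a, b⁆ = (z : E)) (F : Finset (ConjClasses S))
    (hF : ∀ C ∈ F, ∃ g : S, ConjClasses.mk g = C ∧ MGood (Nat.card π.ker) g)
    (hlt : Nat.card (centralizer ({π w} : Set S)) < orderOf (l z) ^ 2 * F.card) :
    ∃ χ : E → ℂ, IsIrrCharacter E χ ∧ (∀ z : π.ker, χ z = χ 1 * l z) ∧ p ∣ charDegree χ := by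
  have : Fact p.Prime := ⟨hp⟩
  have hco : (orderOf w).Coprime (Nat.card π.ker) :=
    (Nat.Coprime.pow_left n ((hp.coprime_iff_not_dvd).2 hpm)).coprime_dvd_left (orderOf_dvd_of_pow_eq_one hw)
  let e : (E ⧸ π.ker) ≃* S := QuotientGroup.quotientKerEquivOfSurjective π hπ
  obtain ⟨F', hF'c, hF'⟩ := exists_transport e F hF
  have h1 := card_mGood_ge hker l F' hF'
  obtain ⟨χ, hχ, hd⟩ := exists_dvd_over_d hker hpm l hw ha hb hz (by
    rw [card_centralizer_lift π hπ hker hco]
    calc Nat.card (centralizer ({π w} : Set S)) * Nat.card π.ker < orderOf (l z) ^ 2 * F.card * Nat.card π.ker :=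
          Nat.mul_lt_mul_of_pos_right hlt Nat.card_pos
      _ ≤ orderOf (l z) ^ 2 * Nat.card {χ : IrrCharacter E // Lies π.ker l (χ : E → ℂ)} * Nat.card π.ker :=
          Nat.mul_le_mul_right _ (Nat.mul_le_mul_left _ (hF'c ▸ h1))
      _ = _ := by ring)
  refine ⟨χ, χ.2, fun z => ?_, hd⟩
  have h2 := hχ 1 z
  rwa [one_mul] at h2

end quot

end Cfsg.Agent.H620.RIM
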