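import Cfsg.Agent.H325.RIM.Surv
import Cfsg.Agent.H257.RIM.HSThree
import Cfsg.Agent.H266.RIM.FiSeven
import Cfsg.Agent.H300.RIM.Ru
import Cfsg.Agent.H300.RIM.RuB
import Cfsg.Agent.H300.RIM.RuC
import Cfsg.Agent.H306.RIM.HS
import Cfsg.Agent.H315.RIM.J2Five
import Cfsg.Agent.H315.RIM.J2Seven
import Cfsg.Agent.H535.RIM.ON
import Cfsg.Agent.H535.RIM.ONAll
import Cfsg.Agent.H764.RIM.RowCo1
import Cfsg.Agent.H764.RIM.RowCo1b

/-!
# S4816: rows of the sporadic groups, first batch (helper620)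

Fields of `RowsNB` and `RowsKill`: `f_ru3`, `f_ru5`, `f_on`, `f_co1_3`, `f_co1_5`, `f_fi24`, `k_j2`, `k_hs`, `k_ru`, `k_on`, `k_co1`.
-/

set_option autoImplicit false
set_option linter.unusedSectionVars false

namespace Cfsg.Agent.H620.RIM

open Cfsg Cfsg.Agent.H665.RIM Cfsg.Agent.H325.RIM Cfsg.Agent.OrdDiv Cfsg.Agent.H436

universe u

theorem f_ru3 : NBRow 3 .ru := fun _ _ _ hS _ => H300.RIM.nball_three hS.real

theorem f_ru5 : NBRow 5 .ru := fun _ _ _ hS _ => H300.RIM.nball_five hS.real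

theorem f_on : NBRow 7 .on := fun _ _ _ hS _ => H535.RIM.ON.nball_seven hS.real

theorem f_co1_3 : NBRow 3 .co1 := fun _ _ _ hS _ => H764.RIM.nball_three hS.real

theorem f_co1_5 : NBRow 5 .co1 := fun _ _ _ hS _ => H764.RIM.nball_five hS.real

theorem f_fi24 : NBRow 7 .fi24 := fun _ _ _ hS _ => H266.RIM.Fi.nball_seven hS.real

theorem k_j2 : ∀ p : ℕ, p = 5 ∨ p = 7 → KillRow.{u} p .j2 := by
  rintro p (rfl | rfl) S _ _ hS
  · exact Or.inr (H315.RIM.ek_j2_5 hS.real)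
  · exact Or.inl (H315.RIM.J2Seven.nball_j2_7 hS.real)

theorem k_hs : ∀ p : ℕ, p = 3 ∨ p = 7 ∨ p = 11 → KillRow.{u} p .hs := by
  rintro p (rfl | rfl | rfl) S _ _ hS
  · exact Or.inr (H257.RIM.HS.ek_three_hs hS.real)
  · exact Or.inl (H306.RIM.HS.nball_seven hS.real)
  · exact Or.inl (H306.RIM.HS.nball_eleven hS.real)

theorem k_ru : ∀ p : ℕ, p = 7 ∨ p = 13 ∨ p = 29 → KillRow.{u} p .ru := by
  rintro p (rfl | rfl | rfl) S _ _ hS
  · exact Or.inl (H300.RIM.nball_seven hS.real)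
  · exact Or.inl (H300.RIM.nball_thirteen hS.real)
  · exact Or.inl (H300.RIM.nball_29 hS.real)

theorem k_on : ∀ p : ℕ, p = 5 ∨ p = 11 ∨ p = 19 ∨ p = 31 → KillRow.{u} p .on := by
  rintro p (rfl | rfl | rfl | rfl) S _ _ hS
  · exact Or.inl (H535.RIM.ON.nball_five hS.real)
  · exact Or.inl (H535.RIM.ON.nball_eleven hS.real)
  · exact Or.inl (H535.RIM.ON.nball_nineteen hS.real)
  · exact Or.inl (H535.RIM.ON.nball_thirtyone hS.real)

theorem k_co1 : ∀ p : ℕ, p = 7 ∨ p = 11 ∨ p = 13 ∨ p = 23 → KillRow.{u} p .co1 := by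
  rintro p (rfl | rfl | rfl | rfl) S _ _ hS
  · exact Or.inl (H764.RIM.nball_seven hS.real)
  · exact Or.inl (H764.RIM.nball_eleven hS.real)
  · exact Or.inl (H764.RIM.nball_thirteen hS.real)
  · exact Or.inl (H764.RIM.nball_twentythree hS.real)

end Cfsg.Agent.H620.RIM
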