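import Cfsg.Agent.H325.RIM.Surv
import Cfsg.Agent.H149.RI.BabyEK
import Cfsg.Agent.H243.RIM.MTwelve
import Cfsg.Agent.H315.RIM.J2Three
import Cfsg.Agent.H388.RI.FiRow
import Cfsg.Agent.H488.RIM.FiTT
import Cfsg.Agent.H5.RIM.Fi24
import Cfsg.Agent.H878.RIM.FiRows

/-!
# S4816: rows of the sporadic groups, second batch (helper620)

Fields of `RowsNB` and `RowsKill`: `f_m12`, `f_j2`, `f_fi22`, `k_m12`, `k_fi22`, `k_fi24`, `k_b`.
-/

set_option autoImplicit false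
set_option linter.unusedSectionVars false

namespace Cfsg.Agent.H620.RIM

open Cfsg Cfsg.Agent.H665.RIM Cfsg.Agent.H325.RIM Cfsg.Agent.OrdDiv Cfsg.Agent.H436

universe u

theorem f_m12 : NBRow 3 .m12 := fun _ _ _ hS _ => H243.RIM.MTw.nball hS.real (Or.inl rfl)

theorem f_j2 : NBRow 3 .j2 := fun _ _ _ hS _ => H315.RIM.J2Three.nball_j2_3 hS.real

theorem f_fi22 : NBRow 3 .fi22 := fun _ _ _ hS _ => H878.RIM.Fi.nball_three hS.real

theorem k_m12 : ∀ p : ℕ, p = 5 ∨ p = 11 → KillRow.{u} p .m12 := by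
  rintro p (rfl | rfl) S _ _ hS
  · exact Or.inl (H243.RIM.MTw.nball hS.real (Or.inr (Or.inl rfl)))
  · exact Or.inl (H243.RIM.MTw.nball hS.real (Or.inr (Or.inr rfl)))

theorem k_fi22 : ∀ p : ℕ, p = 5 ∨ p = 7 ∨ p = 11 ∨ p = 13 → KillRow.{u} p .fi22 := by
  rintro p (rfl | rfl | rfl | rfl) S _ _ hS
  · exact Or.inl (H488.RIM.nball_five hS.real)
  · exact Or.inl (H878.RIM.Fi.nball_seven hS.real)
  · exact Or.inl (H878.RIM.Fi.nball_eleven hS.real)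
  · exact Or.inl (H878.RIM.Fi.nball_thirteen hS.real)

theorem k_fi24 : ∀ p : ℕ, p = 5 ∨ p = 11 ∨ p = 13 ∨ p = 17 ∨ p = 23 ∨ p = 29 → KillRow.{u} p .fi24 := by
  rintro p (rfl | rfl | rfl | rfl | rfl | rfl) S _ _ hS
  · exact Or.inr (H388.RI.FiRow.ek_fi24 hS.real (by norm_num) (by norm_num))
  · exact Or.inr (H388.RI.FiRow.ek_fi24 hS.real (by norm_num) (by norm_num))
  · exact Or.inr (H388.RI.FiRow.ek_fi24 hS.real (by norm_num) (by norm_num))
  · exact Or.inl (H5.RIM.nball_17 hS.real)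
  · exact Or.inl (H5.RIM.nball_23 hS.real)
  · exact Or.inl (H5.RIM.nball_29 hS.real)

theorem k_b : ∀ p : ℕ, p = 7 ∨ p = 11 ∨ p = 13 ∨ p = 17 ∨ p = 19 ∨ p = 23 ∨ p = 31 ∨ p = 47 → KillRow.{u} p .b := by
  rintro p (rfl | rfl | rfl | rfl | rfl | rfl | rfl | rfl) S _ _ hS
  · exact Or.inr (H149.RI.Baby.ek_seven hS.real)
  · exact Or.inr (H149.RI.Baby.ek_eleven hS.real)
  · exact Or.inr (H149.RI.Baby.ek_thirteen hS.real)
  · exact Or.inr (H149.RI.Baby.ek_seventeen hS.real)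
  · exact Or.inr (H149.RI.Baby.ek_nineteen hS.real)
  · exact Or.inr (H149.RI.Baby.ek_twentythree hS.real)
  · exact Or.inr (H149.RI.Baby.ek_thirtyone hS.real)
  · exact Or.inr (H149.RI.Baby.ek_fortyseven hS.real)

end Cfsg.Agent.H620.RIM
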