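import Cfsg.Agent.H620.RIM.Good

/-!
# S4816: the defect zero count with `MGood` classes (helper620, after helper849's `DzCount`)

`exists_dz_quot_m` : `p ∥ |S|`, `y ∈ S` of order `p`, `C_S(y) = ⟨y⟩ × C₀`, `k(C₀) ≤ k'`, `w = |N : C|`: more than
`k' (w ^ 2 + p - 1) / w` good classes give a character over `c` of degree divisible by `p`.
`nb_of_dz`, `nb_of_cent`, `nb_of_list...` : the forms with `NB p m S`.
-/

set_option autoImplicit false
set_option linter.unusedSectionVars false

namespace Cfsg.Agent.H620.RIM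

open Cfsg Subgroup Finset
open Cfsg.Agent.Characters.Core
open Cfsg.Agent.SmallSimple.ThetaSetup Cfsg.Agent.SmallSimple.ThetaOrtho Cfsg.Agent.SmallSimple.ThetaCount
open Cfsg.Agent.SmallSimple.TheoremC Cfsg.Agent.SmallSimple.TheoremCCor
open Cfsg.Agent.SmallSimple.SingularCount
open Cfsg.Agent.H622.Over Cfsg.Agent.H849.RIM

universe u

section tool

variable {G : Type u} [Group G] [Finite G] {p : ℕ} [Fact p.Prime] {P : Sylow p G} {K : Subgroup G}

/-- A character vanishing on the `p`-singular elements, `p ∣ |G|`, has degree divisible by `p`. -/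
theorem exists_dz_m (hK : IsComp p (P : Subgroup G) K) (hP : Nat.card P = p) {Z : Subgroup G} [Z.Normal]
    (hZ : Z ≤ center G) (hZK : Z ≤ K) (c : Z →* ℂˣ) {w : ℕ}
    (hw : (centralizer ((P : Subgroup G) : Set G)).relIndex (normalizer ((P : Subgroup G) : Set G)) = w)
    (A : Finset (IrrCharacter K)) (hA : ∀ θ : IrrCharacter K, LiesK Z c K (θ : K → ℂ) → θ ∈ A)
    (F : Finset (ConjClasses (G ⧸ Z)))
    (hF : ∀ C ∈ F, ∃ g : G ⧸ Z, ConjClasses.mk g = C ∧ MGood (Nat.card Z) g)
    (hlt : ∑ θ ∈ A, (Nat.card (stabAct hK (θ : K → ℂ)) ^ 2 + (p - 1)) < w * F.card) :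
    ∃ χ : IrrCharacter G, Lies Z c (χ : G → ℂ) ∧ ∀ g : G, p ∣ orderOf g → (χ : G → ℂ) g = 0 := by
  classical
  by_contra hcon
  push Not at hcon
  have := finite_irr (G := G)
  have := Fintype.ofFinite (IrrCharacter G)
  have h1 := card_mul_le hK hP hZ hZK hw A hA (Finset.univ.filter fun χ : IrrCharacter G => Lies Z c (χ : G → ℂ))
    (fun χ hχ => ⟨(mem_filter.1 hχ).2, by
      obtain ⟨g, hg, hne⟩ := hcon χ (mem_filter.1 hχ).2
      exact ⟨g, hg, hne⟩⟩)
  have h2 := card_mGood_ge hZ c F hF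
  rw [Nat.card_eq_fintype_card, Fintype.card_subtype] at h2
  have h3 := Nat.mul_le_mul_left w h2
  omega

/-- The number of characters of `K` over `c` is at most the number of classes of the image of `K` in `G ⧸ Z`. -/
theorem card_liesK_le_classes {Z : Subgroup G} [Z.Normal] (hZ : Z ≤ center G) {K : Subgroup G} (hZK : Z ≤ K)
    (c : Z →* ℂˣ) (A : Finset (IrrCharacter K)) (hA : ∀ θ ∈ A, LiesK Z c K (θ : K → ℂ)) :
    A.card ≤ Nat.card (ConjClasses (K.map (QuotientGroup.mk' Z))) := by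
  classical
  have hZ' : Z.subgroupOf K ≤ center K := by
    intro z hz
    rw [mem_center_iff]
    intro y
    exact Subtype.ext (mem_center_iff.1 (hZ (mem_subgroupOf.1 hz)) y)
  have hnorm : (Z.subgroupOf K).Normal := by
    refine ⟨fun z hz y => ?_⟩
    have h1 := mem_center_iff.1 (hZ' hz) y
    rw [h1, mul_inv_cancel_right]
    exact hz
  let c' : Z.subgroupOf K →* ℂˣ := c.comp (subgroupOfEquivOfLe hZK).toMonoidHom
  have h1 := card_over hZ' c'
  rw [card_good hZ' c'] at h1
  have hfin : Finite (IrrCharacter K) := finite_irr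
  have := Fintype.ofFinite (IrrCharacter K)
  have h2 : A.card ≤ Nat.card {χ : IrrCharacter K // Lies (Z.subgroupOf K) c' (χ : K → ℂ)} := by
    have h3 : (A : Set (IrrCharacter K)) ⊆ {χ : IrrCharacter K | Lies (Z.subgroupOf K) c' (χ : K → ℂ)} := by
      intro θ hθ y z
      have h4 := hA θ (mem_coe.1 hθ) y (y * z) ⟨((z : K) : G), mem_subgroupOf.1 z.2⟩ rfl
      exact h4
    have h4 := Set.ncard_le_ncard h3 (Set.toFinite _)
    rw [Set.ncard_coe_finset] at h4
    exact h4
  rw [h1] at h2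
  refine h2.trans ?_
  have hfc : Finite (ConjClasses (K ⧸ Z.subgroupOf K)) :=
    Finite.of_surjective _ (ConjClasses.mk_surjective (α := K ⧸ Z.subgroupOf K))
  have h5 : Nat.card {C : ConjClasses (K ⧸ Z.subgroupOf K) // ∃ g : K,
      ConjClasses.mk (g : K ⧸ Z.subgroupOf K) = C ∧ Good (Z.subgroupOf K) c' g} ≤
      Nat.card (ConjClasses (K ⧸ Z.subgroupOf K)) :=
    Nat.card_le_card_of_injective _ Subtype.val_injective
  refine h5.trans ?_
  -- `K ⧸ Z ≃ K.map`
  let f : K →* K.map (QuotientGroup.mk' Z) := (QuotientGroup.mk' Z).subgroupMap K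
  have hf : Function.Surjective f := (QuotientGroup.mk' Z).subgroupMap_surjective K
  have hker : f.ker = Z.subgroupOf K := by
    ext x
    rw [MonoidHom.mem_ker, mem_subgroupOf, ← QuotientGroup.eq_one_iff]
    exact ⟨fun h => congrArg Subtype.val h, fun h => Subtype.ext h⟩
  have h6 : ∃ g : ConjClasses (K.map (QuotientGroup.mk' Z)) → ConjClasses (K ⧸ Z.subgroupOf K),
      Function.Surjective g := by
    let e : K ⧸ Z.subgroupOf K ≃* K.map (QuotientGroup.mk' Z) :=
      (QuotientGroup.quotientMulEquivOfEq hker.symm).trans (QuotientGroup.quotientKerEquivOfSurjective f hf)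
    refine ⟨ConjClasses.map e.symm.toMonoidHom, ?_⟩
    exact ConjClasses.map_surjective e.symm.surjective
  obtain ⟨g, hg⟩ := h6
  have hfin2 : Finite (ConjClasses (K.map (QuotientGroup.mk' Z))) :=
    Finite.of_surjective _ (ConjClasses.mk_surjective (α := K.map (QuotientGroup.mk' Z)))
  exact Nat.card_le_card_of_surjective g hg

/-- **Defect zero over a central character, `p ∥ |G|`.**  `S = G ⧸ Z`, `y ∈ S` of order `p`, `|C_S(y)| = p k`,
`|N_S(⟨y⟩)| = w p k`, the complement of `⟨y⟩` in `C_S(y)` has at most `k'` classes, and there are more than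
`k' (w ^ 2 + p - 1) / w` classes of `S` with `MGood`. -/
theorem exists_dz_quot_m {Z : Subgroup G} [Z.Normal] (hZ : Z ≤ center G) (hZp : ¬ p ∣ Nat.card Z)
    (hsq : ¬ p ^ 2 ∣ Nat.card (G ⧸ Z)) {y : G ⧸ Z} (hy : orderOf y = p) {k w k' : ℕ}
    (hC : Nat.card (centralizer ({y} : Set (G ⧸ Z))) = p * k)
    (hN : Nat.card (normalizer ((zpowers y : Subgroup (G ⧸ Z)) : Set (G ⧸ Z))) = w * (p * k)) (c : Z →* ℂˣ)
    (F : Finset (ConjClasses (G ⧸ Z)))
    (hF : ∀ C ∈ F, ∃ g : G ⧸ Z, ConjClasses.mk g = C ∧ MGood (Nat.card Z) g)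
    (hk' : ∀ C₀ : Subgroup (G ⧸ Z), C₀ ≤ centralizer {y} → Nat.card C₀ = k → Nat.card (ConjClasses C₀) ≤ k')
    (hlt : k' * (w ^ 2 + (p - 1)) < w * F.card) :
    ∃ χ : IrrCharacter G, Lies Z c (χ : G → ℂ) ∧ p ∣ charDegree (χ : G → ℂ) := by
  classical
  have hp : p.Prime := Fact.out
  have hfin : Finite (IrrCharacter G) := finite_irr
  obtain ⟨u, rfl, hu⟩ := exists_lift hZp hy
  -- the Sylow subgroup
  have hcG := card_eq_card_quotient_mul_card_subgroup Z
  have hG2 : ¬ p ^ 2 ∣ Nat.card G := by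
    rw [hcG]
    intro h
    have hco : (p ^ 2).Coprime (Nat.card Z) := Nat.Coprime.pow_left 2 ((hp.coprime_iff_not_dvd).2 hZp)
    exact hsq (hco.dvd_of_dvd_mul_right h)
  have hzp : IsPGroup p (zpowers u) := IsPGroup.of_card (n := 1) (by rw [Nat.card_zpowers, hu, pow_one])
  obtain ⟨P, hPle⟩ := hzp.exists_le_sylow
  have hP : Nat.card P = p := by
    obtain ⟨n, hn⟩ := (IsPGroup.iff_card).1 P.2
    have h1 : Nat.card P ∣ Nat.card G := card_subgroup_dvd_card _
    have h2 : n < 2 := by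
      by_contra h3
      push Not at h3
      exact hG2 ((pow_dvd_pow p h3).trans (hn ▸ h1))
    have h3 : p ∣ Nat.card P := by
      have := card_dvd_of_le hPle
      rwa [Nat.card_zpowers, hu] at this
    interval_cases n
    · rw [hn, pow_zero, Nat.dvd_one] at h3
      exact absurd h3 hp.one_lt.ne'
    · rw [hn, pow_one]
  have hPz : (P : Subgroup G) = zpowers u := by
    symm
    refine eq_of_le_of_card_ge hPle ?_
    rw [Nat.card_zpowers, hu]
    exact hP.le
  obtain ⟨K, hK⟩ := exists_isComp P hP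
  have huP : u ∈ (P : Subgroup G) := hPle (mem_zpowers u)
  have hu1 : u ≠ 1 := by
    rintro rfl
    rw [orderOf_one] at hu
    exact hp.one_lt.ne hu
  have hCP : centralizer ((P : Subgroup G) : Set G) = centralizer ({u} : Set G) :=
    (Blocks.CyclicOrtho.centralizer_eq P hP huP hu1).symm
  -- the centralizer
  have hcent : centralizer ((P : Subgroup G) : Set G) =
      (centralizer ({(u : G ⧸ Z)} : Set (G ⧸ Z))).comap (QuotientGroup.mk' Z) := by
    rw [hCP]
    ext x
    rw [mem_centralizer_singleton_iff, mem_comap, mem_centralizer_singleton_iff]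
    constructor
    · intro h
      have := congrArg (QuotientGroup.mk' Z) h
      simpa using this
    · intro h
      have h1 : (x : G ⧸ Z) * u * (x : G ⧸ Z)⁻¹ = (u : G ⧸ Z) ^ 1 := by
        have h2 : (x : G ⧸ Z) * u = u * x := h
        rw [h2, mul_inv_cancel_right, pow_one]
      have h2 := comm_of_comm hZ hZp hu h1
      rw [pow_one, mul_inv_eq_iff_eq_mul] at h2
      exact h2
  have hnorm : normalizer ((P : Subgroup G) : Set G) =
      (normalizer ((zpowers (u : G ⧸ Z) : Subgroup (G ⧸ Z)) : Set (G ⧸ Z))).comap (QuotientGroup.mk' Z) := by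
    have hPm : (P : Subgroup G).map (QuotientGroup.mk' Z) = zpowers (u : G ⧸ Z) := by
      rw [hPz, MonoidHom.map_zpowers]
      rfl
    apply le_antisymm
    · intro x hx
      rw [mem_comap, ← hPm]
      exact Subgroup.le_normalizer_map _ (mem_map_of_mem _ hx)
    · intro x hx
      rw [mem_comap] at hx
      have h1 : (x : G ⧸ Z) * u * (x : G ⧸ Z)⁻¹ ∈ zpowers (u : G ⧸ Z) :=
        (mem_normalizer_iff.1 hx (u : G ⧸ Z)).1 (mem_zpowers _)
      obtain ⟨j, hj⟩ := mem_powers_iff_mem_zpowers.2 h1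
      have h2 := comm_of_comm hZ hZp hu (x := x) (j := j) hj.symm
      refine mem_normalizer_fintype fun n hn => ?_
      have hn' : n ∈ zpowers u := by rw [← hPz]; exact hn
      obtain ⟨i, rfl⟩ := mem_powers_iff_mem_zpowers.2 hn'
      show x * u ^ i * x⁻¹ ∈ (P : Subgroup G)
      rw [← conj_pow, h2, hPz]
      exact pow_mem (pow_mem (mem_zpowers u) j) i
  have hcC : Nat.card (centralizer ((P : Subgroup G) : Set G)) = p * k * Nat.card Z := by
    rw [hcent, card_comap, hC]
  have hcN : Nat.card (normalizer ((P : Subgroup G) : Set G)) = w * (p * k) * Nat.card Z := by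
    rw [hnorm, card_comap, hN]
  have hcK : Nat.card K = k * Nat.card Z := by
    have h1 : Nat.card P * Nat.card K = Nat.card (centralizer ((P : Subgroup G) : Set G)) := by
      rw [← Nat.card_prod]
      exact Nat.card_congr (prodEquiv hK hP).toEquiv
    rw [hP, hcC, mul_assoc] at h1
    exact Nat.eq_of_mul_eq_mul_left hp.pos h1
  have hZK : Z ≤ K := by
    intro z hz
    rw [hK]
    refine ⟨?_, fun h => hZp ?_⟩
    · rw [mem_centralizer_iff]
      intro g _
      exact mem_center_iff.1 (hZ hz) g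
    · have h1 := _root_.orderOf_dvd_natCard (⟨z, hz⟩ : Z)
      rw [← orderOf_submonoid] at h1
      exact h.trans h1
  have hk0 : 0 < k := by
    rcases Nat.eq_zero_or_pos k with h | h
    · rw [h, zero_mul] at hcK
      exact absurd hcK Nat.card_pos.ne'
    · exact h
  have hw : (centralizer ((P : Subgroup G) : Set G)).relIndex (normalizer ((P : Subgroup G) : Set G)) = w := by
    have h1 : centralizer ((P : Subgroup G) : Set G) ≤ normalizer ((P : Subgroup G) : Set G) :=
      centralizer_le_normalizer _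
    have h2 := Subgroup.card_mul_index ((centralizer ((P : Subgroup G) : Set G)).subgroupOf
      (normalizer ((P : Subgroup G) : Set G)))
    rw [Nat.card_congr (subgroupOfEquivOfLe h1).toEquiv, hcC, hcN] at h2
    have h3 : 0 < p * k * Nat.card Z := Nat.mul_pos (Nat.mul_pos hp.pos hk0) Nat.card_pos
    rw [Subgroup.relIndex]
    apply Nat.eq_of_mul_eq_mul_left h3
    rw [h2]
    ring
  have hfK : Finite (IrrCharacter K) := finite_irr
  have := Fintype.ofFinite (IrrCharacter K)
  set A : Finset (IrrCharacter K) := univ.filter fun θ => LiesK Z c K (θ : K → ℂ) with hA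
  have hAk : A.card ≤ k' := by
    have hKle : K.map (QuotientGroup.mk' Z) ≤ centralizer ({(u : G ⧸ Z)} : Set (G ⧸ Z)) := by
      rw [map_le_iff_le_comap, ← hcent]
      intro x hx
      exact ((hK x).1 hx).1
    have hKc : Nat.card (K.map (QuotientGroup.mk' Z)) = k := by
      have h1 : (K.map (QuotientGroup.mk' Z)).comap (QuotientGroup.mk' Z) = K := by
        rw [comap_map_eq, QuotientGroup.ker_mk', sup_eq_left]
        exact hZK
      have h2 := card_comap (K.map (QuotientGroup.mk' Z))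
      rw [h1, hcK] at h2
      exact (Nat.eq_of_mul_eq_mul_right Nat.card_pos h2).symm
    exact (card_liesK_le_classes hZ hZK c A fun θ hθ => (mem_filter.1 hθ).2).trans (hk' _ hKle hKc)
  have hsum : ∑ θ ∈ A, (Nat.card (stabAct hK (θ : K → ℂ)) ^ 2 + (p - 1)) ≤ k' * (w ^ 2 + (p - 1)) := by
    have hw0 : 0 < w := by
      rcases Nat.eq_zero_or_pos w with h | h
      · rw [h, zero_mul, zero_mul] at hcN
        exact absurd hcN Nat.card_pos.ne'
      · exact h
    calc ∑ θ ∈ A, (Nat.card (stabAct hK (θ : K → ℂ)) ^ 2 + (p - 1)) ≤ ∑ _θ ∈ A, (w ^ 2 + (p - 1)) := by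
          refine Finset.sum_le_sum fun θ _ => Nat.add_le_add_right (Nat.pow_le_pow_left ?_ 2) _
          have h1 := card_stabAct_mul_card_orb hK hP θ.2
          rw [hw] at h1
          exact Nat.le_of_dvd hw0 (h1 ▸ dvd_mul_right _ _)
      _ = A.card * (w ^ 2 + (p - 1)) := by rw [Finset.sum_const, smul_eq_mul]
      _ ≤ k' * (w ^ 2 + (p - 1)) := Nat.mul_le_mul_right _ hAk
  obtain ⟨χ, hl, h0⟩ := exists_dz_m hK hP hZ hZK c hw A (fun θ hθ => mem_filter.2 ⟨mem_univ _, hθ⟩) F hF
    (lt_of_le_of_lt hsum hlt)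
  refine ⟨χ, hl, ?_⟩
  obtain ⟨d, hd⟩ := exists_degree_eq (P : Subgroup G) (isIrr_isCharacter χ.2) fun x hx hx1 => h0 x (by
    rw [Blocks.CyclicOrtho.orderOf_eq P hP hx hx1])
  rw [hP] at hd
  refine ⟨d, ?_⟩
  have h1 : ((charDegree (χ : G → ℂ) : ℕ) : ℂ) = ((p * d : ℕ) : ℂ) := by
    obtain ⟨n, hn⟩ := isCharacter_apply_one (isIrr_isCharacter χ.2)
    unfold charDegree
    rw [hn, Complex.natCast_re, Nat.floor_natCast, ← hn, hd]
    push_cast
    ring
  exact_mod_cast h1

end tool

/-- **The form with the quotient `S = G ⧸ Z`**: more classes of elements of order prime to `|Z|` than `|C_S(y)|`, where `y`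
is a `p`-element: some character over `c` has degree divisible by `p`. -/
theorem exists_dvd_quot_m {G : Type u} [Group G] [Finite G] {p : ℕ} [Fact p.Prime] {Z : Subgroup G} [Z.Normal] (hZ : Z ≤ center G) (hZp : ¬ p ∣ Nat.card Z)
    {y : G ⧸ Z} {n : ℕ} (hy : orderOf y = p ^ n) (c : Z →* ℂˣ) (F : Finset (ConjClasses (G ⧸ Z)))
    (hF : ∀ C ∈ F, ∃ g : G ⧸ Z, ConjClasses.mk g = C ∧ MGood (Nat.card Z) g)
    (hlt : Nat.card (centralizer ({y} : Set (G ⧸ Z))) < F.card) :
    ∃ χ : IrrCharacter G, Lies Z c (χ : G → ℂ) ∧ p ∣ charDegree (χ : G → ℂ) := by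
  classical
  have hp : p.Prime := Fact.out
  have hco : (p ^ n).Coprime (Nat.card Z) := Nat.Coprime.pow_left n ((hp.coprime_iff_not_dvd).2 hZp)
  -- the lift
  obtain ⟨u, rfl, hu⟩ : ∃ u : G, (u : G ⧸ Z) = y ∧ u ^ (p ^ n) = 1 := by
    obtain ⟨g, rfl⟩ := QuotientGroup.mk_surjective y
    obtain ⟨a, ha⟩ := (Nat.modEq_and_modEq_iff_modEq_mul hco).2 rfl |> fun _ : (0 : ℕ) ≡ 0 [MOD p ^ n] ∧ _ =>
      (⟨Nat.chineseRemainder hco 1 0, (Nat.chineseRemainder hco 1 0).2⟩ : ∃ a, a ≡ 1 [MOD p ^ n] ∧ a ≡ 0 [MOD Nat.card Z])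
    refine ⟨g ^ a, ?_, ?_⟩
    · rw [QuotientGroup.mk_pow]
      have h1 : (g : G ⧸ Z) ^ a = (g : G ⧸ Z) ^ 1 := pow_eq_pow_iff_modEq.2 (by rw [hy]; exact ha.1)
      rw [h1, pow_one]
    · have h1 : g ^ (p ^ n) ∈ Z := by
        rw [← QuotientGroup.eq_one_iff, QuotientGroup.mk_pow, ← hy]
        exact pow_orderOf_eq_one _
      have h2 : (g ^ (p ^ n)) ^ Nat.card Z = 1 := by
        have h3 := pow_card_eq_one' (G := Z) (x := ⟨g ^ (p ^ n), h1⟩)
        exact congrArg Subtype.val h3
      obtain ⟨b, hb⟩ := (Nat.modEq_zero_iff_dvd).1 ha.2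
      calc (g ^ a) ^ (p ^ n) = ((g ^ (p ^ n)) ^ Nat.card Z) ^ b := by
            rw [hb, ← pow_mul, ← pow_mul, ← pow_mul]; ring_nf
        _ = 1 := by rw [h2, one_pow]
  have hou : orderOf u ∣ p ^ n := orderOf_dvd_of_pow_eq_one hu
  have hw : (orderOf u).Coprime (Nat.card Z) := hco.coprime_dvd_left hou
  -- the centralizer
  have hcent : centralizer ({u} : Set G) =
      (centralizer ({(u : G ⧸ Z)} : Set (G ⧸ Z))).comap (QuotientGroup.mk' Z) := by
    ext x
    rw [mem_centralizer_singleton_iff, mem_comap, mem_centralizer_singleton_iff]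
    constructor
    · intro h
      have := congrArg (QuotientGroup.mk' Z) h
      simpa using this
    · intro h
      have h2 : (x : G ⧸ Z) * u = u * x := h
      have h3 : u⁻¹ * (x * u * x⁻¹) ∈ Z := by
        rw [← QuotientGroup.eq_one_iff, QuotientGroup.mk_mul, QuotientGroup.mk_inv, QuotientGroup.mk_mul,
          QuotientGroup.mk_mul, QuotientGroup.mk_inv, h2, mul_inv_cancel_right, inv_mul_cancel]
      have h4 : IsConj u (u * ((⟨_, h3⟩ : Z) : G)) := by
        rw [isConj_iff]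
        exact ⟨x, by simp⟩
      have h5 := congrArg Subtype.val (eq_one_of_conj hZ hw _ h4)
      have h6 : u⁻¹ * (x * u * x⁻¹) = 1 := h5
      rw [inv_mul_eq_one] at h6
      rw [eq_comm, mul_inv_eq_iff_eq_mul] at h6
      exact h6
  obtain ⟨χ, hl, h0⟩ := exists_zero_over hZ c hw (by
    rw [hcent, card_comap, mul_comm]
    refine Nat.mul_lt_mul_of_pos_left (lt_of_lt_of_le hlt (card_mGood_ge hZ c F hF)) Nat.card_pos)
  refine ⟨χ, hl, ?_⟩
  obtain ⟨M, hM⟩ := Blocks.ExistsModular.exists_isPModular hp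
  have hMp : M.IsPrime := hM.2.1.isPrime
  have h1 := H849.OZ.av_sub_mem (χ := χ) hp hMp hM.2.2 u (j := 0) (n := n) (by rw [pow_zero, one_pow, hu])
  have h3 : H732.VZ.av χ u = 0 := Subtype.ext h0
  rw [h3, pow_zero, zero_sub, Ideal.neg_mem_iff] at h1
  have h4 : H732.VZ.av χ 1 = ((charDegree (χ : G → ℂ) : ℤ) : AlgInt) := by
    apply Subtype.ext
    rw [H732.VZ.av_coe, ← H686.CharKit.charDegree_irr χ]
    simp
  rw [h4, H732.VZ.int_mem_iff hp hMp hM.2.2] at h1
  exact_mod_cast h1

end Cfsg.Agent.H620.RIM
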