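import Cfsg.Agent.H849.RIM.DzCount
import Cfsg.Agent.H849.RIM.CentCount
import Cfsg.Agent.H665.RIM.Defs

/-!
# S4816: good classes and the counting tools, user forms (helper620)

* `MGood m g` : for every prime `r ∣ m`, `r ∤ o(g)` or `r ∤ |C(g)| / o(g)`;
* `good_of_mGood` : such classes of `G ⧸ Z` are good for every character of `Z`, `|Z| = m`;
* `nb_of_dz` : `NB p m S` from the number of such classes, `p ∥ |S|`;
* `nb_of_cent` : `NB p m S` if there are more such classes than `|C_S(y)|`, `y` a `p`-element.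
-/

set_option autoImplicit false
set_option linter.unusedSectionVars false

namespace Cfsg.Agent.H620.RIM

open Cfsg Subgroup Finset
open Cfsg.Agent.Characters.Core
open Cfsg.Agent.SmallSimple.ThetaSetup Cfsg.Agent.SmallSimple.ThetaOrtho Cfsg.Agent.SmallSimple.ThetaCount
open Cfsg.Agent.SmallSimple.TheoremC Cfsg.Agent.SmallSimple.TheoremCCor
open Cfsg.Agent.SmallSimple.SingularCount
open Cfsg.Agent.H622.Over Cfsg.Agent.H849.RIM

universe u

/-- `r ∤ o(g)` or `r ∤ |C(g)| / o(g)` for every prime `r ∣ m`. -/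
def MGood (m : ℕ) {S : Type*} [Group S] (g : S) : Prop :=
  ∀ r : ℕ, r.Prime → r ∣ m → ¬ r ∣ orderOf g ∨ ¬ r ∣ Nat.card (centralizer ({g} : Set S)) / orderOf g

theorem mGood_of_coprime {m : ℕ} {S : Type*} [Group S] {g : S} (h : (orderOf g).Coprime m) : MGood m g := by
  intro r hr hm
  left
  intro h1
  exact (Nat.Prime.not_coprime_iff_dvd.2 ⟨r, hr, h1, hm⟩) h

theorem mGood_of_self {m : ℕ} {S : Type*} [Group S] {g : S} (h0 : orderOf g ≠ 0)
    (h : Nat.card (centralizer ({g} : Set S)) = orderOf g) : MGood m g := by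
  intro r hr hm
  right
  rw [h, Nat.div_self (Nat.pos_of_ne_zero h0)]
  exact hr.one_lt.not_ge ∘ Nat.le_of_dvd one_pos

theorem mGood_of_card {m o k : ℕ} {S : Type*} [Group S] {g : S} (ho : orderOf g = o) (h0 : 0 < o)
    (hk : Nat.card (centralizer ({g} : Set S)) = o * k)
    (h : ∀ r : ℕ, r.Prime → r ∣ m → ¬ r ∣ o ∨ ¬ r ∣ k) : MGood m g := by
  intro r hr hm
  rw [ho, hk, Nat.mul_div_cancel_left _ h0]
  exact h r hr hm

theorem MGood.mulEquiv {m : ℕ} {S T : Type*} [Group S] [Group T] (e : S ≃* T) {g : S} (h : MGood m g) :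
    MGood m (e g) := by
  have h1 : orderOf (e g) = orderOf g := orderOf_injective e.toMonoidHom e.injective g
  have h2 : Nat.card (centralizer ({e g} : Set T)) = Nat.card (centralizer ({g} : Set S)) := by
    refine (Nat.card_congr (e.toEquiv.subtypeEquiv ?_)).symm
    intro x
    rw [mem_centralizer_singleton_iff, mem_centralizer_singleton_iff]
    show x * g = g * x ↔ e x * e g = e g * e x
    rw [← map_mul, ← map_mul, e.injective.eq_iff]
  intro r hr hm
  rw [h1, h2]
  exact h r hr hm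

section good

variable {G : Type u} [Group G] [Finite G] {Z : Subgroup G} [Z.Normal]

theorem mem_cz {g x : G} : x ∈ (centralizer ({(g : G ⧸ Z)} : Set (G ⧸ Z))).comap (QuotientGroup.mk' Z) ↔
    x⁻¹ * g⁻¹ * x * g ∈ Z := by
  rw [mem_comap, mem_centralizer_singleton_iff, ← QuotientGroup.eq_one_iff]
  show (x : G ⧸ Z) * g = g * x ↔ ((x⁻¹ * g⁻¹ * x * g : G) : G ⧸ Z) = 1
  rw [QuotientGroup.mk_mul, QuotientGroup.mk_mul, QuotientGroup.mk_mul, QuotientGroup.mk_inv, QuotientGroup.mk_inv]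
  constructor
  · intro h
    rw [mul_assoc, h]
    group
  · intro h
    have h1 : (x : G ⧸ Z) * g = g * x * ((x : G ⧸ Z)⁻¹ * (g : G ⧸ Z)⁻¹ * x * g) := by group
    rw [h1, h, mul_one]

/-- The commutator map on the preimage of the centralizer. -/
def cmap (hZ : Z ≤ center G) (g : G) :
    ↥((centralizer ({(g : G ⧸ Z)} : Set (G ⧸ Z))).comap (QuotientGroup.mk' Z)) →* Z where
  toFun x := ⟨(x : G)⁻¹ * g⁻¹ * x * g, mem_cz.1 x.2⟩
  map_one' := by
    apply Subtype.ext
    show (1 : G)⁻¹ * g⁻¹ * 1 * g = 1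
    group
  map_mul' x y := by
    apply Subtype.ext
    show ((x : G) * y)⁻¹ * g⁻¹ * (x * y) * g = ((x : G)⁻¹ * g⁻¹ * x * g) * ((y : G)⁻¹ * g⁻¹ * y * g)
    have h1 := mem_center_iff.1 (hZ (mem_cz.1 x.2)) ((y : G)⁻¹)
    calc ((x : G) * y)⁻¹ * g⁻¹ * (x * y) * g = (y : G)⁻¹ * ((x : G)⁻¹ * g⁻¹ * x * g) * (g⁻¹ * y * g) := by group
      _ = ((x : G)⁻¹ * g⁻¹ * x * g) * ((y : G)⁻¹ * g⁻¹ * y * g) := by rw [h1]; group

/-- **Classes with `MGood` are good.** -/
theorem good_of_mGood (hZ : Z ≤ center G) (c : Z →* ℂˣ) {g : G} (h : MGood (Nat.card Z) (g : G ⧸ Z)) :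
    Good Z c g := by
  intro x hx
  set z : Z := ⟨x⁻¹ * g⁻¹ * x * g, hx⟩ with hz
  suffices h1 : z = 1 by rw [h1, map_one]
  by_contra hne
  have ho : orderOf z ≠ 1 := fun h1 => hne (orderOf_eq_one_iff.1 h1)
  obtain ⟨r, hr, hrz⟩ := Nat.exists_prime_and_dvd ho
  rcases h r hr (hrz.trans (_root_.orderOf_dvd_natCard _)) with h1 | h1
  · -- the order of `g` modulo `Z`
    apply h1
    set n := orderOf (g : G ⧸ Z) with hn
    have h2 : g ^ n ∈ Z := by
      rw [← QuotientGroup.eq_one_iff, QuotientGroup.mk_pow]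
      exact pow_orderOf_eq_one _
    have hzc : ∀ y : G, y * (z : G) = z * y := fun y => mem_center_iff.1 (hZ z.2) y
    have h3 : x⁻¹ * g⁻¹ * x = (z : G) * g⁻¹ := by
      rw [hz]
      group
    have h4 : (x⁻¹ * g⁻¹ * x) ^ n = g⁻¹ ^ n := by
      have h5 : x⁻¹ * g⁻¹ * x = x⁻¹ * g⁻¹ * (x⁻¹)⁻¹ := by group
      rw [h5, conj_pow, inv_pow]
      have h6 := mem_center_iff.1 (hZ (inv_mem h2)) x⁻¹
      rw [h6]
      group
    have h7 : (z : G) ^ n = 1 := by
      have h8 : Commute (z : G) g⁻¹ := (hzc g⁻¹).symm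
      rw [h3, h8.mul_pow] at h4
      exact mul_eq_right.1 h4
    have h9 : orderOf z ∣ n := orderOf_dvd_of_pow_eq_one (Subtype.ext h7)
    exact hrz.trans h9
  · apply h1
    -- the image of the commutator map
    set C := (centralizer ({(g : G ⧸ Z)} : Set (G ⧸ Z))).comap (QuotientGroup.mk' Z) with hC
    have hxC : x ∈ C := mem_cz.2 hx
    let φ := cmap hZ g
    have hr1 : z ∈ φ.range := ⟨⟨x, hxC⟩, rfl⟩
    have hr2 : orderOf z ∣ Nat.card φ.range := by
      have := _root_.orderOf_dvd_natCard (⟨z, hr1⟩ : φ.range)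
      rwa [← orderOf_submonoid] at this
    -- the kernel contains the preimage of `⟨g⟩`
    set D := (zpowers (g : G ⧸ Z)).comap (QuotientGroup.mk' Z) with hD
    have hDC : D ≤ C := by
      apply comap_mono
      rw [zpowers_le, mem_centralizer_singleton_iff]
    have hDk : D.subgroupOf C ≤ φ.ker := by
      intro y hy
      rw [mem_subgroupOf, hD, mem_comap] at hy
      obtain ⟨j, hj⟩ := mem_zpowers_iff.1 hy
      have h2 : (g ^ j)⁻¹ * (y : G) ∈ Z := by
        rw [← QuotientGroup.eq_one_iff, QuotientGroup.mk_mul, QuotientGroup.mk_inv, QuotientGroup.mk_zpow]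
        rw [hj]
        exact inv_mul_cancel _
      rw [MonoidHom.mem_ker]
      apply Subtype.ext
      show (y : G)⁻¹ * g⁻¹ * y * g = 1
      set t := (g ^ j)⁻¹ * (y : G) with ht
      have h3 : (y : G) = g ^ j * t := by rw [ht]; group
      have h4 := mem_center_iff.1 (hZ h2) g
      rw [h3]
      calc (g ^ j * t)⁻¹ * g⁻¹ * (g ^ j * t) * g = t⁻¹ * g⁻¹ * (t * g) := by group
        _ = 1 := by rw [← h4]; group
    have h5 : Nat.card φ.range ∣ (D.subgroupOf C).index := by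
      rw [← Subgroup.index_ker]
      exact Subgroup.index_dvd_of_le hDk
    have h6 : (D.subgroupOf C).index =
        Nat.card (centralizer ({(g : G ⧸ Z)} : Set (G ⧸ Z))) / orderOf (g : G ⧸ Z) := by
      have h7 := Subgroup.card_mul_index (D.subgroupOf C)
      rw [Nat.card_congr (subgroupOfEquivOfLe hDC).toEquiv, hC, hD, card_comap, card_comap, Nat.card_zpowers] at h7
      have h8 : 0 < orderOf (g : G ⧸ Z) := orderOf_pos _
      symm
      apply Nat.div_eq_of_eq_mul_right h8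
      apply Nat.eq_of_mul_eq_mul_right (Nat.card_pos (α := Z))
      rw [← h7]
      ring
    rw [← h6]
    exact hrz.trans (hr2.trans h5)

theorem card_mGood_ge (hZ : Z ≤ center G) (c : Z →* ℂˣ) (F : Finset (ConjClasses (G ⧸ Z)))
    (hF : ∀ C ∈ F, ∃ g : G ⧸ Z, ConjClasses.mk g = C ∧ MGood (Nat.card Z) g) :
    F.card ≤ Nat.card {χ : IrrCharacter G // Lies Z c (χ : G → ℂ)} := by
  classical
  rw [card_over hZ c, card_good hZ c]
  have h1 : Set.Finite {C : ConjClasses (G ⧸ Z) | ∃ g : G, ConjClasses.mk (g : G ⧸ Z) = C ∧ Good Z c g} := by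
    have : Finite (ConjClasses (G ⧸ Z)) := Finite.of_surjective _ (ConjClasses.mk_surjective (α := G ⧸ Z))
    exact Set.toFinite _
  have h2 : (F : Set (ConjClasses (G ⧸ Z))) ⊆
      {C : ConjClasses (G ⧸ Z) | ∃ g : G, ConjClasses.mk (g : G ⧸ Z) = C ∧ Good Z c g} := by
    intro C hC
    obtain ⟨g, hg, ho⟩ := hF C (mem_coe.1 hC)
    obtain ⟨g', rfl⟩ := QuotientGroup.mk_surjective g
    exact ⟨g', hg, good_of_mGood hZ c ho⟩
  have h3 := Set.ncard_le_ncard h2 h1
  rw [Set.ncard_coe_finset] at h3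
  exact h3

end good

end Cfsg.Agent.H620.RIM
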