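import Cfsg.Agent.H325.RIM.Surv
import Cfsg.Agent.H483.RIM.M22
import Cfsg.Agent.H483.RIM.M22Three
import Cfsg.Agent.H956.RIM.M22

/-!
# S4816: rows of the sporadic groups, third batch (helper620)

Fields of `RowsNB` and `RowsKill`: `k_m22`.
-/

set_option autoImplicit false
set_option linter.unusedSectionVars false

namespace Cfsg.Agent.H620.RIM

open Cfsg Cfsg.Agent.H665.RIM Cfsg.Agent.H325.RIM Cfsg.Agent.OrdDiv Cfsg.Agent.H436

universe u

theorem k_m22 : ∀ p : ℕ, p = 3 ∨ p = 5 ∨ p = 7 ∨ p = 11 → KillRow.{u} p .m22 := by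
  rintro p (rfl | rfl | rfl | rfl) S _ _ hS
  · exact Or.inl (H483.RIM.nball_three hS.real)
  · exact Or.inl (H483.RIM.nball_five hS.real)
  · exact Or.inl (H483.RIM.nball_seven hS.real)
  · exact Or.inr (H956.RIM.M22.ek_m22 hS.real)

end Cfsg.Agent.H620.RIM
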